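/-
Lower bounds for the degree of a representation from the characters of an abelian subgroup:
the characters of an abelian subgroup that occur in a representation form a union of orbits
of the normalizer.
-/
import Mathlib

namespace Cfsg.Agent.AbelianOrbit

open Matrix

variable {A : Type*} [CommGroup A] [Fintype A] {L : Type*} [Field L] {d : ℕ}

/-- The (unnormalised) isotypic projection of a character. -/
noncomputable def proj (τ : A →* Matrix (Fin d) (Fin d) L) (χ : A →* L) : Matrix (Fin d) (Fin d) L :=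
  ∑ x, χ x⁻¹ • τ x

theorem mul_proj (τ : A →* Matrix (Fin d) (Fin d) L) (χ : A →* L) (y : A) :
    τ y * proj τ χ = χ y • proj τ χ := by
  rw [proj, Finset.mul_sum, Finset.smul_sum]
  refine Fintype.sum_equiv (Equiv.mulLeft y) _ _ fun x => ?_
  simp only [Equiv.coe_mulLeft, mul_smul_comm, ← map_mul, smul_smul, _root_.mul_inv_rev]
  rw [show y * (x⁻¹ * y⁻¹) = x⁻¹ by rw [mul_comm x⁻¹, mul_inv_cancel_left]]

theorem proj_mul_proj_ne (τ : A →* Matrix (Fin d) (Fin d) L) {χ χ' : A →* L} (h : χ ≠ χ') :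
    proj τ χ * proj τ χ' = 0 := by
  obtain ⟨y, hy⟩ : ∃ y, χ y ≠ χ' y := not_forall.1 fun h' => h (MonoidHom.ext h')
  have hcomm : τ y * proj τ χ = proj τ χ * τ y := by
    simp only [proj, Finset.mul_sum, Finset.sum_mul, mul_smul_comm, smul_mul_assoc, ← map_mul, mul_comm y]
  have h1 : χ y • (proj τ χ * proj τ χ') = χ' y • (proj τ χ * proj τ χ') := by
    rw [← smul_mul_assoc, ← mul_proj, hcomm, mul_assoc, mul_proj, mul_smul_comm]
  rw [← sub_eq_zero, ← sub_smul] at h1
  exact (smul_eq_zero.1 h1).resolve_left (sub_ne_zero.2 hy)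

theorem proj_mul_self (τ : A →* Matrix (Fin d) (Fin d) L) (χ : A →* L) :
    proj τ χ * proj τ χ = (Fintype.card A : L) • proj τ χ := by
  conv_lhs => arg 1; rw [proj]
  rw [Finset.sum_mul]
  simp only [smul_mul_assoc, mul_proj, smul_smul, ← map_mul, inv_mul_cancel, map_one, one_smul,
    Finset.sum_const, Finset.card_univ, Nat.cast_smul_eq_nsmul]

/-- Distinct characters occurring in a representation are at most `d` in number. -/
theorem card_le (τ : A →* Matrix (Fin d) (Fin d) L) (hA : (Fintype.card A : L) ≠ 0) {W : Type*}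
    (χ : W → A →* L) (S : Finset W) (hχ : Set.InjOn χ S) (hS : ∀ w ∈ S, proj τ (χ w) ≠ 0) :
    S.card ≤ d := by
  classical
  have hv : ∀ w : S, ∃ u, proj τ (χ w.1) *ᵥ u ≠ 0 := fun w => by
    by_contra h
    push Not at h
    exact hS w.1 w.2 (Matrix.ext_of_mulVec_single fun i => by rw [h, zero_mulVec])
  choose u hu using hv
  have hli : LinearIndependent L fun w : S => proj τ (χ w.1) *ᵥ u w := by
    rw [Fintype.linearIndependent_iff]
    intro c hc w
    have := congrArg (proj τ (χ w.1) *ᵥ ·) hc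
    simp only [mulVec_sum, mulVec_smul, mulVec_mulVec, mulVec_zero] at this
    rw [Finset.sum_eq_single w (fun b _ hb => by
        rw [proj_mul_proj_ne τ fun h => hb (Subtype.ext (hχ b.2 w.2 h.symm)), zero_mulVec, smul_zero])
      (fun h => absurd (Finset.mem_univ w) h), proj_mul_self, smul_mulVec, smul_smul] at this
    exact (mul_eq_zero.1 ((smul_eq_zero.1 this).resolve_right (hu w))).resolve_right hA
  simpa using hli.fintype_card_le_finrank

theorem exists_proj_ne_zero [NeZero d] (τ : A →* Matrix (Fin d) (Fin d) L) {W : Type*} [Fintype W]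
    (χ : W → A →* L) (hW : (Fintype.card W : L) ≠ 0) (hsum : ∀ a, a ≠ 1 → ∑ w, χ w a = 0)
    (hne : ∃ a, τ a ≠ 1) : ∃ w a, χ w a ≠ 1 ∧ proj τ (χ w) ≠ 0 := by
  classical
  obtain ⟨y, hy⟩ := hne
  by_contra h
  push Not at h
  have htot : ∑ w, proj τ (χ w) = (Fintype.card W : L) • (1 : Matrix (Fin d) (Fin d) L) := by
    simp only [proj]
    rw [Finset.sum_comm, Finset.sum_eq_single (1 : A)]
    · simp [map_one, Finset.card_univ, Nat.cast_smul_eq_nsmul]
    · exact fun a _ ha => by rw [← Finset.sum_smul, hsum _ (inv_ne_one.2 ha), zero_smul]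
    · exact fun h => absurd (Finset.mem_univ _) h
  have hfix : τ y * ∑ w, proj τ (χ w) = ∑ w, proj τ (χ w) := by
    rw [Finset.mul_sum]
    refine Finset.sum_congr rfl fun w _ => ?_
    rw [mul_proj]
    by_cases hw : χ w y = 1
    · rw [hw, one_smul]
    · rw [h w y hw, smul_zero]
  rw [htot, mul_smul_comm, mul_one] at hfix
  exact hy (smul_right_injective _ hW hfix)

theorem proj_conj {G : Type*} [Group G] (ρ : G →* GL (Fin d) L) (j : A →* G) (g : G) (σ : A ≃* A)
    (hσ : ∀ a, g * j a * g⁻¹ = j (σ a)) {χ χ' : A →* L} (hχ : ∀ a, χ' (σ a) = χ a)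
    (h : proj ((Units.coeHom _).comp (ρ.comp j)) χ ≠ 0) :
    proj ((Units.coeHom _).comp (ρ.comp j)) χ' ≠ 0 := by
  intro h0
  apply h
  have e : proj ((Units.coeHom _).comp (ρ.comp j)) χ' =
      (ρ g : Matrix (Fin d) (Fin d) L) * proj ((Units.coeHom _).comp (ρ.comp j)) χ * ((ρ g)⁻¹ : GL (Fin d) L).1 := by
    simp only [proj, Finset.mul_sum, Finset.sum_mul, mul_smul_comm, smul_mul_assoc]
    refine (Fintype.sum_equiv σ.toEquiv _ _ fun a => ?_).symm
    simp only [MulEquiv.coe_toEquiv, MonoidHom.coe_comp, Function.comp_apply, Units.coeHom_apply]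
    simp only [MulEquiv.toEquiv_eq_coe, EquivLike.coe_coe]
    rw [← map_inv σ, hχ, ← hσ, map_mul, map_mul, map_inv ρ, Units.val_mul, Units.val_mul]
  rw [h0] at e
  have := congrArg (fun M => ((ρ g)⁻¹ : GL (Fin d) L).1 * M * (ρ g : Matrix (Fin d) (Fin d) L)) e
  simpa [mul_assoc] using this.symm

/-- If every nontrivial character of the family has at least `N` conjugates, then `N ≤ d`. -/
theorem le_degree {G : Type*} [Group G] (ρ : G →* GL (Fin d) L) (j : A →* G) {W : Type*} [Fintype W]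
    (χ : W → A →* L) (hA : (Fintype.card A : L) ≠ 0) (hW : (Fintype.card W : L) ≠ 0)
    (hsum : ∀ a, a ≠ 1 → ∑ w, χ w a = 0) (hne : ∃ a, ρ (j a) ≠ 1) (N : ℕ)
    (horb : ∀ w, (∃ a, χ w a ≠ 1) → ∃ S : Finset W, N ≤ S.card ∧ Set.InjOn χ S ∧
      ∀ w' ∈ S, ∃ (g : G) (σ : A ≃* A), (∀ a, g * j a * g⁻¹ = j (σ a)) ∧ ∀ a, χ w' (σ a) = χ w a) :
    N ≤ d := by
  obtain ⟨a, ha⟩ := hne
  have : NeZero d := ⟨by rintro rfl; exact ha (Subsingleton.elim _ _)⟩
  obtain ⟨w, b, hb, hw⟩ := exists_proj_ne_zero ((Units.coeHom _).comp (ρ.comp j)) χ hW hsum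
    ⟨a, fun h => ha (Units.ext h)⟩
  obtain ⟨S, hN, hinj, hS⟩ := horb w ⟨b, hb⟩
  refine hN.trans (card_le ((Units.coeHom _).comp (ρ.comp j)) hA χ S hinj fun w' hw' => ?_)
  obtain ⟨g, σ, h1, h2⟩ := hS w' hw'
  exact proj_conj ρ j g σ h1 h2 hw

/-- A nontrivial additive character of a finite field with values in an algebraically closed
field of another characteristic. -/
theorem exists_addChar (F : Type*) [Field F] [Fintype F] (L : Type*) [Field L] [IsAlgClosed L]
    (h : (Fintype.card F : L) ≠ 0) : ∃ ψ : AddChar F L, ψ ≠ 1 := by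
  classical
  obtain ⟨p, hp⟩ := CharP.exists F
  obtain ⟨n, hprime, hn⟩ := FiniteField.card F p
  have : Fact p.Prime := ⟨hprime⟩
  have : NeZero (p : L) := ⟨fun h0 => h (by rw [hn, Nat.cast_pow, h0, zero_pow n.ne_zero])⟩
  letI : Algebra (ZMod p) F := ZMod.algebra F p
  obtain ⟨ζ, hζ⟩ := HasEnoughRootsOfUnity.exists_primitiveRoot L p
  obtain ⟨b, hb⟩ := Module.Projective.exists_dual_ne_zero (ZMod p) (one_ne_zero (α := F))
  refine ⟨(AddChar.zmodChar p hζ.pow_eq_one).compAddMonoidHom b.toAddMonoidHom, AddChar.ne_one_iff.2 ⟨(b 1)⁻¹ • 1, ?_⟩⟩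
  rw [AddChar.compAddMonoidHom_apply, LinearMap.toAddMonoidHom_coe, map_smul, smul_eq_mul,
    inv_mul_cancel₀ hb, AddChar.zmodChar_apply, ZMod.val_one, pow_one]
  exact hζ.ne_one hprime.one_lt

/-- The characters `a ↦ ψ (B w a)` of a nondegenerate pairing form a complete family. -/
theorem sum_pairing_eq_zero {F V W : Type*} [Field F] [AddCommGroup W] [Module F W] [Fintype W]
    [AddCommGroup V] [Module F V] {ψ : AddChar F L} (hψ : ψ ≠ 1) (B : W →ₗ[F] V →ₗ[F] F) {v : V}
    (hv : ∃ w, B w v ≠ 0) : ∑ w, ψ (B w v) = 0 := by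
  classical
  obtain ⟨w, hw⟩ := hv
  obtain ⟨x, hx⟩ := AddChar.ne_one_iff.1 hψ
  refine AddChar.sum_eq_zero_of_ne_one (ψ := ψ.compAddMonoidHom (B.flip v).toAddMonoidHom)
    (AddChar.ne_one_iff.2 ⟨(x / B w v) • w, ?_⟩)
  simp [hw, hx]

theorem pairing_injective {F V : Type*} [Field F] [AddCommGroup V] [Module F V]
    {ψ : AddChar F L} (hψ : ψ ≠ 1) {f g : V →ₗ[F] F} (h : ∀ v, ψ (f v) = ψ (g v)) : f = g := by
  obtain ⟨x, hx⟩ := AddChar.ne_one_iff.1 hψ
  refine LinearMap.ext fun v => ?_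
  by_contra hv
  have hne : f v - g v ≠ 0 := sub_ne_zero.2 hv
  refine hx ?_
  have h1 := h ((x / (f v - g v)) • v)
  simp only [map_smul, smul_eq_mul] at h1
  have h2 : x / (f v - g v) * f v = x + x / (f v - g v) * g v := by field_simp; ring
  rw [h2, AddChar.map_add_eq_mul] at h1
  exact (mul_eq_right₀ (IsUnit.ne_zero (AddChar.val_isUnit ψ _))).1 h1

end Cfsg.Agent.AbelianOrbit
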