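/-
Degree bounds from class-two subgroups: projections with large range.
-/
import Mathlib
import Cfsg.Agent.Lib.Rep.AbelianOrbit

namespace Cfsg.Agent.Heisenberg

open Matrix Cfsg.Agent.AbelianOrbit

variable {L : Type*} [Field L] {d : ℕ}

/-- Nonzero operators in distinct joint eigenspaces are linearly independent. -/
theorem linearIndependent_eigen {P ι V : Type*} [Monoid P] [AddCommGroup V] [Module L V]
    (Φ : P → V →ₗ[L] V) (c : ι → P →* L) (hc : Function.Injective c) (X : ι → V)
    (hX : ∀ i, X i ≠ 0) (hΦ : ∀ p i, Φ p (X i) = c i p • X i) : LinearIndependent L X := by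
  rw [linearIndependent_iff']
  intro s a hs i hi
  obtain ⟨f, hf⟩ := Module.Projective.exists_dual_ne_zero L (hX i)
  have hli := (linearIndependent_monoidHom P L).comp c hc
  have h0 : ∑ k ∈ s, (a k * f (X k)) • ((c k : P → L)) = 0 := by
    funext p
    have := congrArg f (congrArg (Φ p) hs)
    simpa [map_sum, hΦ, mul_comm, mul_assoc, mul_left_comm] using this
  exact (mul_eq_zero.1 (linearIndependent_iff'.1 hli s _ h0 i hi)).resolve_right hf

/-- A family of independent operators in the corner of `e` gives a lower bound for the rank of `e`. -/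
theorem exists_indep_in_range {ι : Type*} [Fintype ι] (e : Matrix (Fin d) (Fin d) L) {N : L} (hN : N ≠ 0)
    (X : ι → Matrix (Fin d) (Fin d) L) (hl : ∀ i, e * X i = N • X i) (hr : ∀ i, X i * e = N • X i)
    (hX : LinearIndependent L X) {r : ℕ} (hr' : r * r ≤ Fintype.card ι) :
    ∃ u : Fin r → Fin d → L, LinearIndependent L fun i => e *ᵥ u i := by
  classical
  set R := LinearMap.range (Matrix.toLin' e) with hR
  have hmem : ∀ i, ∀ v ∈ R, Matrix.toLin' (X i) v ∈ R := fun i v _ => by
    refine ⟨N⁻¹ • (X i *ᵥ v), ?_⟩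
    rw [Matrix.toLin'_apply, Matrix.toLin'_apply, mulVec_smul, mulVec_mulVec, hl, smul_mulVec, smul_smul,
      inv_mul_cancel₀ hN, one_smul]
  have hli : LinearIndependent L fun i => (Matrix.toLin' (X i)).restrict (hmem i) := by
    rw [Fintype.linearIndependent_iff] at hX
    refine (Fintype.linearIndependent_iff (R := L) (M := R →ₗ[L] R)
      (v := fun i => (Matrix.toLin' (X i)).restrict (hmem i))).2 fun a ha i => ?_
    refine hX a (smul_right_injective _ hN ?_) i
    simp only [smul_zero, Finset.smul_sum, smul_comm N, ← hr, ← smul_mul_assoc]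
    rw [← Finset.sum_mul]
    refine Matrix.ext_of_mulVec_single fun k => ?_
    have := congrArg Subtype.val (LinearMap.congr_fun ha ⟨e *ᵥ Pi.single k 1, ⟨_, Matrix.toLin'_apply _ _⟩⟩)
    rw [zero_mulVec, ← mulVec_mulVec]
    simpa [LinearMap.sum_apply, sum_mulVec, smul_mulVec] using this
  have hcard : r * r ≤ Module.finrank L R * Module.finrank L R :=
    hr'.trans (hli.fintype_card_le_finrank.trans_eq (Module.finrank_linearMap L L R R))
  have hle : r ≤ Module.finrank L R := Nat.mul_self_le_mul_self_iff.1 hcard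
  let b := Module.finBasis L R
  choose u hu using fun i : Fin r => LinearMap.mem_range.1 (b (Fin.castLE hle i)).2
  refine ⟨u, ?_⟩
  have h1 := (b.linearIndependent.comp _ (Fin.castLE_injective hle)).map' R.subtype R.ker_subtype
  have e1 : (fun i => e *ᵥ u i) = R.subtype ∘ b ∘ Fin.castLE hle :=
    funext fun i => by simpa [Matrix.toLin'_apply] using hu i
  rw [e1]
  exact h1

theorem mul_le {A : Type*} [CommGroup A] [Fintype A] (τ : A →* Matrix (Fin d) (Fin d) L)
    (hA : (Fintype.card A : L) ≠ 0) {W : Type*} (χ : W → A →* L) (S : Finset W) (hχ : Set.InjOn χ S)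
    {r : ℕ} (hS : ∀ w ∈ S, ∃ u : Fin r → Fin d → L, LinearIndependent L fun i => proj τ (χ w) *ᵥ u i) :
    S.card * r ≤ d := by
  classical
  choose u hu using fun w : S => hS w.1 w.2
  have hli : LinearIndependent L fun x : S × Fin r => proj τ (χ x.1.1) *ᵥ u x.1 x.2 := by
    rw [Fintype.linearIndependent_iff]
    rintro c hc ⟨w, i⟩
    have := congrArg (proj τ (χ w.1) *ᵥ ·) hc
    simp only [mulVec_sum, mulVec_smul, mulVec_mulVec, mulVec_zero] at this
    rw [Fintype.sum_prod_type, Finset.sum_eq_single w (fun b _ hb => Finset.sum_eq_zero fun k _ => by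
        rw [proj_mul_proj_ne τ fun h => hb (Subtype.ext (hχ b.2 w.2 h.symm)), zero_mulVec, smul_zero])
      (fun h => absurd (Finset.mem_univ w) h)] at this
    simp only [proj_mul_self, smul_mulVec, smul_smul] at this
    exact (mul_eq_zero.1 (Fintype.linearIndependent_iff.1 (hu w) (fun k => c (w, k) * (Fintype.card A : L)) this i)).resolve_right hA
  simpa using hli.fintype_card_le_finrank

end Cfsg.Agent.Heisenberg
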