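/-
The lower bound `q^(n-1) - 1` for cross characteristic representations of `SL_n(q)`, `n ≥ 3`.
-/
import Mathlib
import Cfsg.Agent.Lib.Rep.AbelianOrbit

namespace Cfsg.Agent.SLDegree

open Matrix Cfsg.Agent.AbelianOrbit

variable {F : Type*} [Field F]

theorem card_ne_zero [Fintype F] {K : Type*} [Field K] (hK : ringChar K ≠ ringChar F) :
    (Fintype.card F : K) ≠ 0 := by
  obtain ⟨n, hp, hn⟩ := FiniteField.card F (ringChar F)
  rw [hn, Nat.cast_pow]
  refine pow_ne_zero _ fun h => ?_
  rcases hp.eq_one_or_self_of_dvd _ (ringChar.dvd h) with h1 | h1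
  · exact CharP.ringChar_ne_one h1
  · exact hK h1

variable {m : ℕ}

/-- The element `1 + a ⊗ b`. -/
def elt {k : ℕ} (a b : Fin k → F) (h : b ⬝ᵥ a = 0) : SpecialLinearGroup (Fin k) F :=
  ⟨1 + replicateCol Unit a * replicateRow Unit b, by
    rw [det_one_add_replicateCol_mul_replicateRow, h, add_zero]⟩

theorem elt_val {k : ℕ} (a b : Fin k → F) (h : b ⬝ᵥ a = 0) :
    (elt a b h).1 = 1 + vecMulVec a b := by
  rw [vecMulVec_eq Unit]; rfl

theorem cons_dot (a b : Fin m → F) :
    (Fin.cons 0 b : Fin (m + 1) → F) ⬝ᵥ Fin.cons 0 a = b ⬝ᵥ a := by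
  simp [dotProduct, Fin.sum_univ_succ]

theorem cons_single (b : Fin m → F) :
    (Fin.cons 0 b : Fin (m + 1) → F) ⬝ᵥ Pi.single 0 1 = 0 := by
  simp [dotProduct_single]

/-- The first row abelian subgroup. -/
def jHom : Multiplicative (Fin m → F) →* SpecialLinearGroup (Fin (m + 1)) F where
  toFun v := elt (Pi.single 0 1) (Fin.cons 0 v.toAdd) (cons_single _)
  map_one' := by
    apply Subtype.ext
    rw [elt_val]
    ext i k
    refine Fin.cases ?_ (fun k => ?_) k <;> simp [vecMulVec_apply]
  map_mul' u v := by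
    apply Subtype.ext
    change _ = (elt _ _ (cons_single _)).1 * (elt _ _ (cons_single _)).1
    simp only [elt_val, add_mul, mul_add, one_mul, mul_one, vecMulVec_mul_vecMulVec]
    rw [cons_single, zero_smul]
    ext i k
    refine Fin.cases ?_ (fun k => ?_) k <;> simp [vecMulVec_apply, mul_add] <;> ring

theorem jHom_injective : Function.Injective (jHom (F := F) (m := m)) := by
  intro u v h
  have h' := congrArg Subtype.val h
  change (elt _ _ (cons_single _)).1 = (elt _ _ (cons_single _)).1 at h'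
  rw [elt_val, elt_val, add_left_cancel_iff] at h'
  refine Multiplicative.toAdd.injective (funext fun k => ?_)
  simpa [vecMulVec_apply] using congrFun (congrFun h' 0) k.succ

/-- The automorphism induced by a transvection. -/
def sigma (a b : Fin m → F) (h : b ⬝ᵥ a = 0) :
    Multiplicative (Fin m → F) ≃* Multiplicative (Fin m → F) :=
  AddEquiv.toMultiplicative
    { toFun := fun v => v - (v ⬝ᵥ a) • b
      invFun := fun v => v + (v ⬝ᵥ a) • b
      left_inv := fun v => by simp [sub_dotProduct, smul_dotProduct, h]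
      right_inv := fun v => by simp [add_dotProduct, smul_dotProduct, h]
      map_add' := fun u v => by simp [add_dotProduct, add_smul]; abel }

theorem conj_jHom (a b : Fin m → F) (h : b ⬝ᵥ a = 0) (v : Multiplicative (Fin m → F)) :
    elt (Fin.cons 0 a) (Fin.cons 0 b) ((cons_dot a b).trans h) * jHom v *
      (elt (Fin.cons 0 a) (Fin.cons 0 b) ((cons_dot a b).trans h))⁻¹ = jHom (sigma a b h v) := by
  rw [mul_inv_eq_iff_eq_mul]
  apply Subtype.ext
  change (elt _ _ _).1 * (elt _ _ (cons_single _)).1 = (elt _ _ (cons_single _)).1 * (elt _ _ _).1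
  simp only [elt_val, add_mul, mul_add, one_mul, mul_one, vecMulVec_mul_vecMulVec]
  rw [cons_single, cons_dot, zero_smul]
  ext i k
  refine Fin.cases ?_ (fun k => ?_) k <;>
    simp [vecMulVec_apply, sigma, sub_dotProduct, smul_dotProduct, h] <;> ring

/-- `w'` is conjugate to `w` as a character label. -/
def Rel (w w' : Fin m → F) : Prop :=
  ∃ (g : SpecialLinearGroup (Fin (m + 1)) F) (σ : Multiplicative (Fin m → F) ≃* Multiplicative (Fin m → F)),
    (∀ v, g * jHom v * g⁻¹ = jHom (σ v)) ∧ ∀ v, (σ v).toAdd ⬝ᵥ w' = v.toAdd ⬝ᵥ w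

theorem Rel.trans {u v w : Fin m → F} (h1 : Rel u v) (h2 : Rel v w) : Rel u w := by
  obtain ⟨g, σ, hg, hσ⟩ := h1
  obtain ⟨g', σ', hg', hσ'⟩ := h2
  refine ⟨g' * g, σ.trans σ', fun x => ?_, fun x => ?_⟩
  · simp only [MulEquiv.trans_apply, ← hg', ← hg]; group
  · simp only [MulEquiv.trans_apply, hσ', hσ]

theorem rel_step [DecidableEq F] {w u : Fin m → F} (i : Fin m) (hi : w i ≠ 0) (hu : u i = w i) :
    Rel w u := by
  have h : (Pi.single i (w i)⁻¹ : Fin m → F) ⬝ᵥ (u - w) = 0 := by simp [single_dotProduct, hu]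
  refine ⟨_, sigma (u - w) _ h, conj_jHom (u - w) _ h, fun v => ?_⟩
  change (v.toAdd - (v.toAdd ⬝ᵥ (u - w)) • (Pi.single i (w i)⁻¹ : Fin m → F)) ⬝ᵥ u = _
  rw [sub_dotProduct, smul_dotProduct, single_dotProduct, hu, inv_mul_cancel₀ hi,
    smul_eq_mul, mul_one, dotProduct_sub, sub_sub_cancel]

theorem rel_all [DecidableEq F] (hm : 2 ≤ m) {w w' : Fin m → F} (hw : w ≠ 0) (hw' : w' ≠ 0) :
    Rel w w' := by
  have hne : ∀ i : Fin m, ∃ k, k ≠ i := fun i => by
    have : Nontrivial (Fin m) := Fin.nontrivial_iff_two_le.2 hm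
    exact exists_ne i
  have key : ∀ i k : Fin m, ∀ x y : F, k ≠ i → x ≠ 0 → y ≠ 0 →
      Rel (Pi.single i x : Fin m → F) (Pi.single k y) := fun i k x y hki hx hy =>
    (rel_step i (u := Pi.single i x + Pi.single k y) (by simp [hx]) (by simp [hki.symm])).trans
      (rel_step k (by simp [hki, hy]) (by simp [hki]))
  obtain ⟨i, hi⟩ := Function.ne_iff.1 hw
  obtain ⟨k, hk⟩ := Function.ne_iff.1 hw'
  have h1 : Rel w (Pi.single i (w i)) := rel_step i hi (by simp)
  have h2 : Rel (Pi.single k (w' k)) w' := rel_step k (by simpa using hk) (by simp)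
  obtain ⟨l, hl⟩ := hne i
  by_cases hki : k = i
  · subst hki
    exact ((h1.trans (key k l (w k) 1 hl hi one_ne_zero)).trans (key l k 1 (w' k) hl.symm one_ne_zero hk)).trans h2
  · exact (h1.trans (key i k _ _ hki hi hk)).trans h2

theorem bound [Fintype F] {K : Type*} [Field K] (hK : ringChar K ≠ ringChar F) {d : ℕ} (hm : 2 ≤ m)
    (ρ : SpecialLinearGroup (Fin (m + 1)) F →* GL (Fin d) K)
    (hker : ρ.ker ≤ Subgroup.center (SpecialLinearGroup (Fin (m + 1)) F)) :
    Fintype.card F ^ m - 1 ≤ d := by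
  classical
  let L := AlgebraicClosure K
  have hq : (Fintype.card F : L) ≠ 0 := by
    rw [← map_natCast (algebraMap K L)]
    exact (map_ne_zero _).2 (card_ne_zero hK)
  obtain ⟨ψ, hψ⟩ := exists_addChar F L hq
  let χ : (Fin m → F) → Multiplicative (Fin m → F) →* L := fun w =>
    { toFun := fun v => ψ (v.toAdd ⬝ᵥ w)
      map_one' := by simp
      map_mul' := fun u v => by simp [add_dotProduct, AddChar.map_add_eq_mul] }
  let ρ' := (Matrix.GeneralLinearGroup.map (algebraMap K L)).comp ρ
  have hA : (Fintype.card (Multiplicative (Fin m → F)) : L) ≠ 0 := by simp [hq]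
  have hW : (Fintype.card (Fin m → F) : L) ≠ 0 := by simp [hq]
  let B : (Fin m → F) →ₗ[F] (Fin m → F) →ₗ[F] F :=
    LinearMap.mk₂ F (fun w v => v ⬝ᵥ w) (by simp [dotProduct_add]) (by simp [dotProduct_smul])
      (by simp [add_dotProduct]) (by simp [smul_dotProduct])
  refine le_degree ρ' (jHom (F := F) (m := m)) χ hA hW (fun v hv => ?_) ?_ _ fun w hw => ?_
  · obtain ⟨i, hi⟩ := Function.ne_iff.1 (show v.toAdd ≠ 0 from fun h => hv (Multiplicative.toAdd.injective h))
    exact sum_pairing_eq_zero hψ B (v := v.toAdd) ⟨Pi.single i 1, by simpa [B, dotProduct_single] using hi⟩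
  · by_contra h
    push Not at h
    have : Nontrivial (Fin m) := Fin.nontrivial_iff_two_le.2 hm
    obtain ⟨i, k, hik⟩ := exists_pair_ne (Fin m)
    have hd : (Pi.single k 1 : Fin m → F) ⬝ᵥ Pi.single i 1 = 0 := by simp [hik]
    let v := Multiplicative.ofAdd (Pi.single i 1 : Fin m → F)
    have hmem : jHom v ∈ ρ.ker := by
      refine MonoidHom.mem_ker.2 (Units.ext (Matrix.map_injective (algebraMap K L).injective ?_))
      have := congrArg Units.val (h v)
      simpa [ρ'] using this
    have h1 := conj_jHom (F := F) (Pi.single i 1) (Pi.single k 1) hd v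
    rw [(Subgroup.mem_center_iff.1 (hker hmem)) _, mul_inv_cancel_right] at h1
    have h2 := congrFun (congrArg Multiplicative.toAdd (jHom_injective h1)) k
    simp [v, sigma, hik.symm] at h2
  · obtain ⟨v, hv⟩ := hw
    have hw0 : w ≠ 0 := fun h => hv (by simp [χ, h])
    refine ⟨Finset.univ.erase 0, by simp [Finset.card_erase_of_mem], fun a _ b _ hab => ?_, fun w' hw' => ?_⟩
    · have := pairing_injective (f := B a) (g := B b) hψ fun v => by
        simpa [χ, B] using DFunLike.congr_fun hab (Multiplicative.ofAdd v)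
      funext i
      simpa [B, single_dotProduct] using LinearMap.congr_fun this (Pi.single i 1)
    · obtain ⟨g, σ, h1, h2⟩ := rel_all hm hw0 (Finset.ne_of_mem_erase hw')
      exact ⟨g, σ, h1, fun v => by simp [χ, h2]⟩

end Cfsg.Agent.SLDegree
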