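/-
The lower bound `q^(n-1)(q-1)/2` for cross characteristic representations of `Sp_{2n}(q)`, `q` odd.
-/
import Mathlib
import Cfsg.Agent.Lib.Rep.SLDegree

namespace Cfsg.Agent.SpDegree

open Matrix Cfsg.Agent.AbelianOrbit

variable {F : Type*} [Field F] {n : ℕ}

theorem mem_uni (S : Matrix (Fin n) (Fin n) F) (hS : Sᵀ = S) :
    fromBlocks 1 S 0 1 ∈ symplecticGroup (Fin n) F := by
  rw [SymplecticGroup.mem_iff]
  simp [Matrix.J, fromBlocks_transpose, fromBlocks_multiply, hS]

variable (F n) in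
/-- Symmetric matrices. -/
def Sym : Submodule F (Matrix (Fin n) (Fin n) F) where
  carrier := {S | Sᵀ = S}
  add_mem' {a b} ha hb := show (a + b)ᵀ = a + b by rw [transpose_add, ha, hb]
  zero_mem' := transpose_zero
  smul_mem' c a ha := show (c • a)ᵀ = c • a by rw [transpose_smul, ha]

/-- The Siegel unipotent subgroup. -/
def jHom : Multiplicative (Sym F n) →* symplecticGroup (Fin n) F where
  toFun S := ⟨fromBlocks 1 S.toAdd.1 0 1, mem_uni _ S.toAdd.2⟩
  map_one' := Subtype.ext (by simp)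
  map_mul' a b := Subtype.ext (by simp [fromBlocks_multiply, add_comm])

theorem jHom_injective : Function.Injective (jHom (F := F) (n := n)) := fun a b h =>
  Multiplicative.toAdd.injective (Subtype.ext (fromBlocks_inj.1 (congrArg Subtype.val h)).2.1)

theorem mem_levi (g : GL (Fin n) F) :
    fromBlocks g.1 0 0 (g⁻¹ : GL (Fin n) F).1ᵀ ∈ symplecticGroup (Fin n) F := by
  rw [SymplecticGroup.mem_iff]
  have h1 : g.1 * (g⁻¹ : GL (Fin n) F).1 = 1 := g.mul_inv
  have h2 : (g⁻¹ : GL (Fin n) F).1ᵀ * g.1ᵀ = 1 := by rw [← transpose_mul, h1, transpose_one]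
  generalize (g⁻¹ : GL (Fin n) F).1 = A at h1 h2 ⊢
  simp [Matrix.J, fromBlocks_transpose, fromBlocks_multiply, h1, h2]

/-- The Levi subgroup. -/
def levi (g : GL (Fin n) F) : symplecticGroup (Fin n) F := ⟨_, mem_levi g⟩

/-- Congruence by `g` on symmetric matrices. -/
def sigma (g : GL (Fin n) F) : Multiplicative (Sym F n) ≃* Multiplicative (Sym F n) :=
  AddEquiv.toMultiplicative
    { toFun := fun S => ⟨g.1 * S.1 * g.1ᵀ, show _ = _ by
        rw [transpose_mul, transpose_mul, transpose_transpose, show S.1ᵀ = S.1 from S.2, mul_assoc]⟩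
      invFun := fun S => ⟨(g⁻¹ : GL (Fin n) F).1 * S.1 * (g⁻¹ : GL (Fin n) F).1ᵀ, show _ = _ by
        rw [transpose_mul, transpose_mul, transpose_transpose, show S.1ᵀ = S.1 from S.2, mul_assoc]⟩
      left_inv := fun S => Subtype.ext (by
        have h : g.1ᵀ * (g⁻¹ : GL (Fin n) F).1ᵀ = 1 := by rw [← transpose_mul, g.inv_mul, transpose_one]
        simp only [← mul_assoc, g.inv_mul, one_mul]
        rw [mul_assoc, h, mul_one])
      right_inv := fun S => Subtype.ext (by
        have h : (g⁻¹ : GL (Fin n) F).1ᵀ * g.1ᵀ = 1 := by rw [← transpose_mul, g.mul_inv, transpose_one]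
        simp only [← mul_assoc, g.mul_inv, one_mul]
        rw [mul_assoc, h, mul_one])
      map_add' := fun S T => Subtype.ext (by simp [mul_add, add_mul]) }

theorem conj_jHom (g : GL (Fin n) F) (S : Multiplicative (Sym F n)) :
    levi g * jHom S * (levi g)⁻¹ = jHom (sigma g S) := by
  rw [mul_inv_eq_iff_eq_mul]
  apply Subtype.ext
  change fromBlocks g.1 0 0 _ * fromBlocks 1 S.toAdd.1 0 1 =
    fromBlocks 1 (g.1 * S.toAdd.1 * g.1ᵀ) 0 1 * fromBlocks g.1 0 0 (g⁻¹ : GL (Fin n) F).1ᵀ
  simp only [fromBlocks_multiply, mul_one, one_mul, zero_mul, mul_zero, add_zero, zero_add]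
  rw [mul_assoc, ← transpose_mul, g.inv_mul, transpose_one, mul_one]

theorem trace_sigma (g : GL (Fin n) F) (T S : Matrix (Fin n) (Fin n) F) :
    trace ((g⁻¹ : GL (Fin n) F).1ᵀ * T * (g⁻¹ : GL (Fin n) F).1 * (g.1 * S * g.1ᵀ)) = trace (T * S) := by
  set h := (g⁻¹ : GL (Fin n) F).1 with hh
  have e1 : h * g.1 = 1 := g.inv_mul
  have e2 : g.1ᵀ * hᵀ = 1 := by rw [← transpose_mul, e1, transpose_one]
  calc trace (hᵀ * T * h * (g.1 * S * g.1ᵀ)) = trace (hᵀ * (T * S * g.1ᵀ)) := by
        simp only [mul_assoc]; rw [← mul_assoc h, e1, one_mul]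
    _ = trace (T * S) := by rw [trace_mul_comm, mul_assoc, e2, mul_one]

theorem exists_quad_ne_zero (h2 : (2 : F) ≠ 0) {T : Matrix (Fin n) (Fin n) F} (hT : Tᵀ = T) (h0 : T ≠ 0) :
    ∃ u : Fin n → F, u ⬝ᵥ T *ᵥ u ≠ 0 := by
  by_contra h
  push Not at h
  apply h0
  ext i k
  have hkk := h (Pi.single k 1)
  have hii := h (Pi.single i 1)
  have hik := h (Pi.single i 1 + Pi.single k 1)
  have e : T k i = T i k := congrFun (congrFun hT i) k
  simp [mulVec_add, dotProduct_add, add_dotProduct, single_dotProduct, mulVec_single, e] at hkk hii hik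
  have : 2 * T i k = 0 := by linear_combination hik - hkk - hii
  simpa [h2] using this

theorem exists_first_col {m : ℕ} {u : Fin (m + 1) → F} (hu : u ≠ 0) :
    ∃ h : GL (Fin (m + 1)) F, h.1.col 0 = u := by
  obtain ⟨i, hi⟩ := Function.ne_iff.1 hu
  let A : Matrix (Fin (m + 1)) (Fin (m + 1)) F := (1 : Matrix _ _ F).updateCol i u
  have hA : A.det ≠ 0 := by
    have : A.det = u i := by
      change ((1 : Matrix _ _ F).updateCol i u).det = _
      rw [← cramer_apply, cramer_one]; simp
    rwa [this]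
  have hB : IsUnit (A.submatrix id (Equiv.swap 0 i)).det := by
    rw [det_permute', isUnit_iff_ne_zero]
    exact mul_ne_zero (by rcases Int.units_eq_one_or (Equiv.Perm.sign (Equiv.swap 0 i)) with h | h <;> simp [h]) hA
  refine ⟨GeneralLinearGroup.mk'' _ hB, funext fun k => ?_⟩
  change A.submatrix id (Equiv.swap 0 i) k 0 = u k
  simp [A]

/-- The matrix with first row `(x, z)` and the identity below. -/
def rowMat {m : ℕ} (x : F) (z : Fin m → F) : Matrix (Fin (m + 1)) (Fin (m + 1)) F :=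
  (1 : Matrix (Fin (m + 1)) (Fin (m + 1)) F).updateRow 0 (Fin.cons x z)

theorem det_rowMat {m : ℕ} (x : F) (z : Fin m → F) : (rowMat x z).det = x := by
  rw [det_of_isUpperTriangular (fun i k hik => by
    have hi : i ≠ 0 := fun h => (Fin.not_lt_zero k) (h ▸ hik)
    rw [rowMat, updateRow_ne hi]
    exact one_apply_ne hik.ne')]
  simp [Fin.prod_univ_succ, rowMat, updateRow_ne, Fin.succ_ne_zero]

theorem rowMat_congr_row {m : ℕ} (x : F) (z : Fin m → F) (T : Matrix (Fin (m + 1)) (Fin (m + 1)) F)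
    (k : Fin m) :
    ((rowMat x z)ᵀ * T * rowMat x z) 0 0 = x * x * T 0 0 ∧
      ((rowMat x z)ᵀ * T * rowMat x z) 0 k.succ = x * (T 0 0 * z k + T 0 k.succ) := by
  constructor
  · simp [Matrix.mul_apply, Fin.sum_univ_succ, rowMat, updateRow_apply, one_apply, Fin.succ_ne_zero, (Fin.succ_ne_zero _).symm]
    ring
  · simp [Matrix.mul_apply, Fin.sum_univ_succ, rowMat, updateRow_apply, one_apply, Fin.succ_ne_zero, (Fin.succ_ne_zero _).symm,
      Finset.sum_ite_eq', mul_add, mul_ite]
    ring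

variable [Fintype F]

theorem two_le_card_squares_mul [DecidableEq F] :
    Fintype.card F - 1 ≤ 2 * ((Finset.univ.erase (0 : F)).image fun x => x * x).card := by
  have h := Finset.card_le_mul_card_image (f := fun x : F => x * x) (Finset.univ.erase 0) 2 fun b hb => by
    obtain ⟨a, -, rfl⟩ := Finset.mem_image.1 hb
    refine le_trans (Finset.card_le_card fun x hx => ?_) (Finset.card_le_two (a := a) (b := -a))
    simp only [Finset.mem_filter] at hx
    simpa [mul_self_eq_mul_self_iff] using hx.2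
  simpa [Finset.card_erase_of_mem] using h

theorem bound {K : Type*} [Field K] (hK : ringChar K ≠ ringChar F) (hodd : Odd (Fintype.card F)) {d m : ℕ}
    (hm : 1 ≤ m) (ρ : symplecticGroup (Fin (m + 1)) F →* GL (Fin d) K)
    (hker : ρ.ker ≤ Subgroup.center (symplecticGroup (Fin (m + 1)) F)) :
    Fintype.card F ^ m * (Fintype.card F - 1) / 2 ≤ d := by
  classical
  have h2 : (2 : F) ≠ 0 := Ring.two_ne_zero (fun h => by
    obtain ⟨k, hp, hk⟩ := FiniteField.card F (ringChar F)
    rw [hk, h, Nat.odd_iff, Nat.pow_mod] at hodd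
    simp [zero_pow k.ne_zero] at hodd)
  let L := AlgebraicClosure K
  have hq : (Fintype.card F : L) ≠ 0 := by
    rw [← map_natCast (algebraMap K L)]
    exact (map_ne_zero _).2 (SLDegree.card_ne_zero hK)
  obtain ⟨ψ, hψ⟩ := exists_addChar F L hq
  let B : Sym F (m + 1) →ₗ[F] Sym F (m + 1) →ₗ[F] F :=
    LinearMap.mk₂ F (fun T S => trace (T.1 * S.1)) (by simp [add_mul]) (by simp)
      (by simp [mul_add]) (by simp)
  let χ : Sym F (m + 1) → Multiplicative (Sym F (m + 1)) →* L := fun T =>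
    { toFun := fun S => ψ (B T S.toAdd)
      map_one' := by simp
      map_mul' := fun u v => by simp [AddChar.map_add_eq_mul] }
  let ρ' := (Matrix.GeneralLinearGroup.map (algebraMap K L)).comp ρ
  have hW : (Fintype.card (Sym F (m + 1)) : L) ≠ 0 := by
    rw [Module.card_eq_pow_finrank (K := F), Nat.cast_pow]
    exact pow_ne_zero _ hq
  have hA : (Fintype.card (Multiplicative (Sym F (m + 1))) : L) ≠ 0 := by
    rw [Fintype.card_multiplicative]; exact hW
  -- nondegeneracy of the trace form on symmetric matrices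
  have hnd : ∀ S : Sym F (m + 1), S ≠ 0 → ∃ T, B T S ≠ 0 := fun S hS => by
    obtain ⟨i, k, hik⟩ : ∃ i k, S.1 i k ≠ 0 := by
      by_contra h
      push Not at h
      exact hS (Subtype.ext (Matrix.ext h))
    refine ⟨⟨Matrix.single i k 1 + Matrix.single k i 1, show _ = _ by
      simp [add_comm]⟩, ?_⟩
    have e : S.1 k i = S.1 i k := congrFun (congrFun S.2 i) k
    simp [B, add_mul, trace_single_mul, e, ← two_mul, h2, hik]
  refine le_degree ρ' (jHom (F := F) (n := m + 1)) χ hA hW (fun v hv => ?_) ?_ _ fun T hT => ?_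
  · exact sum_pairing_eq_zero hψ B (v := v.toAdd)
      (hnd _ fun h => hv (Multiplicative.toAdd.injective h))
  · by_contra h
    push Not at h
    let S0 : Sym F (m + 1) := ⟨Matrix.single 0 0 1, transpose_single 0 0 1⟩
    have hmem : jHom (Multiplicative.ofAdd S0) ∈ ρ.ker := by
      refine MonoidHom.mem_ker.2 (Units.ext (Matrix.map_injective (algebraMap K L).injective ?_))
      have := congrArg Units.val (h (Multiplicative.ofAdd S0))
      simpa [ρ'] using this
    let i1 : Fin (m + 1) := ⟨1, by omega⟩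
    have hi1 : i1 ≠ 0 := by simp [i1, Fin.ext_iff]
    have hU : IsUnit (transvection i1 0 (1 : F)).det := by rw [det_transvection_of_ne _ _ hi1]; exact isUnit_one
    have h1 := conj_jHom (GeneralLinearGroup.mk'' _ hU) (Multiplicative.ofAdd S0)
    rw [(Subgroup.mem_center_iff.1 (hker hmem)) _, mul_inv_cancel_right] at h1
    have h3 : S0.1 i1 0 = (transvection i1 0 1 * S0.1 * (transvection i1 0 1)ᵀ : Matrix _ _ F) i1 0 :=
      congrFun (congrFun (congrArg (fun x => (Multiplicative.toAdd x).1) (jHom_injective h1)) i1) 0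
    simp [S0, transvection, Matrix.mul_apply, single_apply, one_apply, hi1, hi1.symm] at h3
  · obtain ⟨a, ha⟩ := hT
    have hT0 : T.1 ≠ 0 := fun h => ha (by
      change ψ (trace (T.1 * _)) = 1
      rw [h, zero_mul, trace_zero, AddChar.map_zero_eq_one])
    obtain ⟨u, hu⟩ := exists_quad_ne_zero h2 T.2 hT0
    obtain ⟨h₀, hh₀⟩ := exists_first_col (u := u) (fun h => hu (by rw [h, zero_dotProduct]))
    set T1 := h₀.1ᵀ * T.1 * h₀.1 with hT1
    have hc : T1 0 0 ≠ 0 := by
      have : T1 0 0 = h₀.1.col 0 ⬝ᵥ T.1 *ᵥ h₀.1.col 0 := by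
        rw [hT1, mul_assoc]
        rfl
      rw [this, hh₀]; exact hu
    set Q := ((Finset.univ.erase (0 : F)).image fun x => x * x) ×ˢ (Finset.univ : Finset (Fin m → F)) with hQ
    have key : ∀ r : Q, ∃ T' : Sym F (m + 1),
        (T'.1 0 0 = T1 0 0 * r.1.1 ∧ ∀ k : Fin m, T'.1 0 k.succ = r.1.2 k) ∧
        ∃ (g : symplecticGroup (Fin (m + 1)) F) (σ : Multiplicative (Sym F (m + 1)) ≃* Multiplicative (Sym F (m + 1))),
          (∀ a, g * jHom a * g⁻¹ = jHom (σ a)) ∧ ∀ a, χ T' (σ a) = χ T a := by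
      rintro ⟨⟨s, y⟩, hr⟩
      obtain ⟨x, hx, rfl⟩ := Finset.mem_image.1 (Finset.mem_product.1 hr).1
      have hx0 := Finset.ne_of_mem_erase hx
      set z : Fin m → F := fun k => (y k / x - T1 0 k.succ) / T1 0 0 with hz
      have hR : IsUnit (rowMat x z).det := by rw [det_rowMat]; exact isUnit_iff_ne_zero.2 hx0
      set g : GL (Fin (m + 1)) F := (h₀ * GeneralLinearGroup.mk'' _ hR)⁻¹ with hg
      have hinv : (g⁻¹ : GL (Fin (m + 1)) F).1 = h₀.1 * rowMat x z := by
        rw [hg, inv_inv, Units.val_mul]; rfl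
      refine ⟨⟨(g⁻¹ : GL (Fin (m + 1)) F).1ᵀ * T.1 * (g⁻¹ : GL (Fin (m + 1)) F).1, show _ = _ by
        rw [transpose_mul, transpose_mul, transpose_transpose, show T.1ᵀ = T.1 from T.2, mul_assoc]⟩, ?_,
        levi g, sigma g, conj_jHom g, fun a => congrArg ψ (trace_sigma g T.1 a.toAdd.1)⟩
      have e : (g⁻¹ : GL (Fin (m + 1)) F).1ᵀ * T.1 * (g⁻¹ : GL (Fin (m + 1)) F).1 =
          (rowMat x z)ᵀ * T1 * rowMat x z := by
        rw [hinv, hT1, transpose_mul]; simp only [mul_assoc]
      refine ⟨?_, fun k => ?_⟩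
      · change ((g⁻¹ : GL (Fin (m + 1)) F).1ᵀ * T.1 * (g⁻¹ : GL (Fin (m + 1)) F).1) 0 0 = _
        rw [e, (rowMat_congr_row x z T1 ⟨0, hm⟩).1]
        ring
      · change ((g⁻¹ : GL (Fin (m + 1)) F).1ᵀ * T.1 * (g⁻¹ : GL (Fin (m + 1)) F).1) 0 k.succ = _
        rw [e, (rowMat_congr_row x z T1 k).2]
        change x * (T1 0 0 * ((y k / x - T1 0 k.succ) / T1 0 0) + T1 0 k.succ) = y k
        field_simp
        ring
    choose f hf1 hf2 using key
    have hfi : Function.Injective f := fun r r' h => by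
      refine Subtype.ext (Prod.ext (mul_left_cancel₀ hc ?_) (funext fun k => ?_))
      · rw [← (hf1 r).1, ← (hf1 r').1, h]
      · rw [← (hf1 r).2, ← (hf1 r').2, h]
    refine ⟨Finset.univ.image f, ?_, fun a _ b _ hab => ?_, fun w hw => ?_⟩
    · rw [Finset.card_image_of_injective _ hfi, Finset.card_univ, Fintype.card_coe, hQ, Finset.card_product,
        Finset.card_univ, Fintype.card_fun, Fintype.card_fin]
      refine Nat.div_le_of_le_mul ?_
      rw [mul_comm _ (Fintype.card F - 1), ← mul_assoc]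
      exact Nat.mul_le_mul_right _ two_le_card_squares_mul
    · have := pairing_injective (f := B a) (g := B b) hψ fun v => DFunLike.congr_fun hab (Multiplicative.ofAdd v)
      by_contra hne
      obtain ⟨T', hT'⟩ := hnd (a - b) (sub_ne_zero.2 hne)
      refine hT' ?_
      have e := LinearMap.congr_fun this T'
      change trace (a.1 * T'.1) = trace (b.1 * T'.1) at e
      change trace (T'.1 * (a.1 - b.1)) = 0
      rw [mul_sub, trace_sub, trace_mul_comm, trace_mul_comm T'.1 b.1, e, sub_self]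
    · obtain ⟨r, -, rfl⟩ := Finset.mem_image.1 hw
      exact hf2 r

end Cfsg.Agent.SpDegree
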