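/-
The lower bound `2^m (q - 1)` for faithful representations of the Suzuki groups.
-/
import Mathlib
import Cfsg.Agent.Lib.Rep.Heisenberg
import Cfsg.Agent.Lib.Suzuki.Group

namespace Cfsg.Agent.SzDegree

open Matrix Cfsg.Agent.AbelianOrbit Cfsg.Agent.Suzuki

variable {F : Type*} [Field F] [Fintype F] {m : ℕ}

theorem bound (h : SzField F m) {d : ℕ} (ρ : Cfsg.Sz F m →* GL (Fin d) ℂ) (hρ : Function.Injective ρ) :
    2 ^ m * (2 ^ (2 * m + 1) - 1) ≤ d := by
  classical
  have hq : (Fintype.card F : ℂ) ≠ 0 := Nat.cast_ne_zero.2 Fintype.card_ne_zero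
  obtain ⟨ψ, hψ⟩ := exists_addChar F ℂ hq
  obtain ⟨x₁, hx₁⟩ := AddChar.ne_one_iff.1 hψ
  let j : Multiplicative F →* Cfsg.Sz F m :=
    { toFun := fun b => T h 0 b.toAdd
      map_one' := T_zero h
      map_mul' := fun a b => by rw [T_mul]; simp }
  let χ : F → Multiplicative F →* ℂ := fun w =>
    { toFun := fun b => ψ (w * b.toAdd)
      map_one' := by simp
      map_mul' := fun a b => by simp [mul_add, AddChar.map_add_eq_mul] }
  let τ := (Units.coeHom (Matrix (Fin d) (Fin d) ℂ)).comp (ρ.comp j)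
  have hd : NeZero d := ⟨by
    rintro rfl
    have := hρ (Subsingleton.elim (ρ (T h 0 1)) (ρ (T h 0 0)))
    exact one_ne_zero (T_injective h this).2⟩
  have hA : (Fintype.card (Multiplicative F) : ℂ) ≠ 0 := by simpa using hq
  obtain ⟨w₀, b₀, hb₀, hw₀⟩ := exists_proj_ne_zero τ χ hq (fun a ha => by
      refine sum_pairing_eq_zero hψ (LinearMap.mul F F) (v := a.toAdd) ⟨1, ?_⟩
      simpa using fun e => ha (Multiplicative.toAdd.injective e))
    ⟨Multiplicative.ofAdd 1, fun e => one_ne_zero (T_injective h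
      (hρ ((Units.ext e).trans (by rw [T_zero h, map_one]) : ρ (T h 0 1) = ρ (T h 0 0)))).2⟩
  have hw₀0 : w₀ ≠ 0 := fun e => hb₀ (by simp [χ, e])
  have hall : ∀ w : F, w ≠ 0 → proj τ (χ w) ≠ 0 := fun w hw => by
    obtain ⟨k, hk, hkb⟩ := h.θ_mul_self_surjective (w₀ / w) (div_ne_zero hw₀0 hw)
    let σ : Multiplicative F ≃* Multiplicative F := AddEquiv.toMultiplicative
      { toFun := fun b => θ m k * k * b
        invFun := fun b => (θ m k * k)⁻¹ * b
        left_inv := fun b => inv_mul_cancel_left₀ (mul_ne_zero (θ_ne_zero m hk) hk) b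
        right_inv := fun b => mul_inv_cancel_left₀ (mul_ne_zero (θ_ne_zero m hk) hk) b
        map_add' := fun a b => mul_add _ _ _ }
    refine proj_conj ρ j (H h (Units.mk0 k hk)) σ (fun b => ?_) (fun b => ?_) hw₀
    · change H h _ * T h 0 b.toAdd * (H h _)⁻¹ = T h 0 _
      rw [H_conj_T, mul_zero]
      rfl
    · change ψ (w * (θ m k * k * b.toAdd)) = ψ (w₀ * b.toAdd)
      rw [hkb, ← mul_assoc, mul_div_cancel₀ _ hw]
  have hrank : ∀ w : F, w ≠ 0 → ∃ u : Fin (2 ^ m) → Fin d → ℂ,
      LinearIndependent ℂ fun i => proj τ (χ w) *ᵥ u i := fun w hw => by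
    set e := proj τ (χ w) with he
    let c : F → Multiplicative F →* ℂ := fun a =>
      { toFun := fun p => ψ (w * (θ m p.toAdd * a + θ m a * p.toAdd))
        map_one' := by simp
        map_mul' := fun p p' => by
          rw [← AddChar.map_add_eq_mul, ← mul_add]
          congr 2
          rw [toAdd_mul, h.θ_add]; ring }
    -- fibres of `c` have at most two elements
    have hc_add : ∀ a a' p, c (a + a') p = c a p * c a' p := fun a a' p => by
      change ψ _ = ψ _ * ψ _
      rw [← AddChar.map_add_eq_mul, ← mul_add]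
      congr 2
      rw [h.θ_add]; ring
    have hrad : ∀ a a', (∀ p, c a p = 1) → (∀ p, c a' p = 1) → a ≠ 0 → a' ≠ 0 → a = a' := by
      intro a a' ha ha' ha0 ha0'
      obtain ⟨r, rfl⟩ : ∃ r, a' = r * a := ⟨a' / a, (div_mul_cancel₀ a' ha0).symm⟩
      have hr0 : r ≠ 0 := left_ne_zero_of_mul ha0'
      suffices θ m r = hθ m r by
        have := congrArg (θ m) this
        rw [h.θ_θ, h.θ_hθ] at this
        rcases h.sq_eq_self this with e | e
        · exact absurd e hr0
        · rw [e, one_mul]
      by_contra hne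
      have hne' : hθ m r + θ m r ≠ 0 := fun e => hne ((h.eq_iff_add_eq_zero _ _).2 e).symm
      set C := x₁ / (w * θ m a * (hθ m r + θ m r)) with hC
      have h1 : ψ (w * (θ m (hθ m r * C) * a + θ m a * (hθ m r * C))) = 1 :=
        ha (Multiplicative.ofAdd (hθ m r * C))
      have h2 : ψ (w * (θ m C * (r * a) + θ m (r * a) * C)) = 1 := ha' (Multiplicative.ofAdd C)
      have h3 := congrArg₂ (· * ·) h1 h2
      simp only [mul_one, ← AddChar.map_add_eq_mul] at h3
      refine hx₁ ?_
      rw [θ_mul, h.θ_hθ, θ_mul] at h3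
      convert h3 using 2
      have : x₁ = C * (w * θ m a * (hθ m r + θ m r)) := by
        rw [hC, div_mul_cancel₀]
        exact mul_ne_zero (mul_ne_zero hw (θ_ne_zero m ha0)) hne'
      rw [this]
      linear_combination - (h.add_self (w * r * θ m C * a))
    have hfib : ∀ b ∈ Finset.univ.image c, (Finset.univ.filter fun a => c a = b).card ≤ 2 := by
      intro b hb
      obtain ⟨a₀, -, rfl⟩ := Finset.mem_image.1 hb
      by_contra hlt
      rw [not_le, Finset.two_lt_card_iff] at hlt
      obtain ⟨a, a', a'', h1, h2, h3, h12, h13, h23⟩ := hlt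
      simp only [Finset.mem_filter, Finset.mem_univ, true_and] at h1 h2 h3
      have key : ∀ a', c a' = c a₀ → a ≠ a' → a' + a ≠ 0 ∧ ∀ p, c (a' + a) p = 1 := fun a' h2 hne => by
        refine ⟨fun e => hne ((h.eq_iff_add_eq_zero _ _).2 e).symm, fun p => ?_⟩
        rw [hc_add, h2, ← h1, ← hc_add, h.add_self]
        simp [c]
      obtain ⟨k1, l1⟩ := key a' h2 h12
      obtain ⟨k2, l2⟩ := key a'' h3 h13
      exact h23 (add_right_cancel (hrad _ _ l1 l2 k1 k2))
    have hcard : 2 ^ m * 2 ^ m ≤ (Finset.univ.image c).card := by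
      have := Finset.card_le_mul_card_image (f := c) (Finset.univ : Finset F) 2 hfib
      rw [Finset.card_univ, h.card] at this
      rw [← pow_add]
      rw [pow_succ, show 2 * m = m + m by omega] at this
      omega
    choose rep hrep using fun b : (Finset.univ.image c) => Finset.mem_image.1 b.2
    let X : (Finset.univ.image c) → Matrix (Fin d) (Fin d) ℂ := fun b => (ρ (T h (rep b) 0)).1 * e
    have hcomm : ∀ a, e * (ρ (T h a 0)).1 = (ρ (T h a 0)).1 * e := fun a => by
      simp only [he, proj, Finset.mul_sum, Finset.sum_mul, mul_smul_comm, smul_mul_assoc]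
      refine Finset.sum_congr rfl fun b _ => ?_
      congr 1
      change (ρ (T h 0 b.toAdd)).1 * (ρ (T h a 0)).1 = (ρ (T h a 0)).1 * (ρ (T h 0 b.toAdd)).1
      rw [← Units.val_mul, ← Units.val_mul, ← map_mul, ← map_mul, T_mul, T_mul]
      simp
    have hee : e * e = (Fintype.card (Multiplicative F) : ℂ) • e := proj_mul_self τ _
    refine Heisenberg.exists_indep_in_range e hA X (fun b => ?_) (fun b => ?_) ?_
      (by rw [Fintype.card_coe]; exact hcard)
    · change e * (_ * e) = _ • (_ * e)
      rw [← mul_assoc, hcomm, mul_assoc, hee, mul_smul_comm]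
    · change (_ * e) * e = _ • (_ * e)
      rw [mul_assoc, hee, mul_smul_comm]
    · refine Heisenberg.linearIndependent_eigen
        (fun p : Multiplicative F => LinearMap.mulLeftRight ℂ
          ((ρ (T h p.toAdd 0)).1, ((ρ (T h p.toAdd 0))⁻¹).1))
        (fun b => c (rep b)) (fun b b' e' => Subtype.ext ((hrep b).2.symm.trans (e'.trans (hrep b').2)))
        X (fun b e' => hall w hw ?_) (fun p b => ?_)
      · have := congrArg (((ρ (T h (rep b) 0))⁻¹).1 * ·) e'
        simpa [X, ← mul_assoc] using this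
      · set P := T h p.toAdd 0 with hP
        set A₀ := T h (rep b) 0 with hA₀
        set β := θ m p.toAdd * rep b + θ m (rep b) * p.toAdd with hβ
        have hPA : P * A₀ = T h 0 β * (A₀ * P) := by
          rw [hP, hA₀, T_mul, T_mul, T_mul]
          congr 1
          · ring
          · rw [θ_zero, hβ]
            linear_combination - (h.add_self (θ m (rep b) * p.toAdd))
        rw [LinearMap.mulLeftRight_apply]
        change (ρ P).1 * ((ρ A₀).1 * e) * ((ρ P)⁻¹).1 = ψ (w * β) • ((ρ A₀).1 * e)
        have hZ : (ρ (T h 0 β)).1 * e = ψ (w * β) • e := mul_proj τ (χ w) (Multiplicative.ofAdd β)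
        calc (ρ P).1 * ((ρ A₀).1 * e) * ((ρ P)⁻¹).1
            = (ρ (P * A₀)).1 * e * ((ρ P)⁻¹).1 := by
              simp only [map_mul, Units.val_mul, mul_assoc]
          _ = (ρ (T h 0 β)).1 * ((ρ A₀).1 * (e * ((ρ P).1 * ((ρ P)⁻¹).1))) := by
              rw [hPA, map_mul, map_mul, Units.val_mul, Units.val_mul]
              simp only [mul_assoc]
              rw [← mul_assoc (ρ P).1 e, hP, ← hcomm]
              simp only [mul_assoc]
          _ = (ρ (T h 0 β)).1 * (e * (ρ A₀).1) := by
              rw [Units.mul_inv, mul_one, hcomm]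
          _ = _ := by rw [← mul_assoc, hZ, smul_mul_assoc, hcomm]
  have := Heisenberg.mul_le τ hA χ (Finset.univ.erase 0) (fun a _ b _ hab => ?_) (r := 2 ^ m)
    fun w hw => hrank w (Finset.ne_of_mem_erase hw)
  · rwa [Finset.card_erase_of_mem (Finset.mem_univ _), Finset.card_univ, h.card, mul_comm] at this
  · by_contra hne
    refine hx₁ ?_
    have e' : ψ (a * (x₁ / (a - b))) = ψ (b * (x₁ / (a - b))) :=
      DFunLike.congr_fun hab (Multiplicative.ofAdd (x₁ / (a - b)))
    have h2 : a * (x₁ / (a - b)) = x₁ + b * (x₁ / (a - b)) := by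
      have := sub_ne_zero.2 hne
      field_simp
      ring
    rw [h2, AddChar.map_add_eq_mul] at e'
    exact (mul_eq_right₀ (IsUnit.ne_zero (AddChar.val_isUnit ψ _))).1 e'

end Cfsg.Agent.SzDegree
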